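import Groth.Agent.ExtAR.Exact
import Mathlib.CategoryTheory.Monoidal.Tor
import Mathlib.Algebra.Category.ModuleCat.Monoidal.Symmetric
import Mathlib.Algebra.Category.ModuleCat.Projective
import Mathlib.Algebra.Homology.HomologicalComplexAbelian
import Mathlib.Algebra.Homology.HomologySequenceLemmas
import Mathlib.RingTheory.Flat.Basic
import Mathlib.LinearAlgebra.TensorProduct.RightExactness
import Mathlib.LinearAlgebra.TensorProduct.Finiteness
import Mathlib.RingTheory.Ideal.AssociatedPrime.Finiteness
import Mathlib.RingTheory.LocalRing.ResidueField.Ideal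

/-!
# Reduction of statements on `H(X ⊗ P)` to residue fields

`P` is a chain complex of flat modules over a Noetherian ring.

* `good_of_residueField` : a property of modules closed under extensions and kernels which is
  detected on finitely generated submodules holds as soon as it holds for residue fields.
* `exists_fg_rep`, `exists_fg_map_eq_zero` : homology of `X ⊗ P` is detected on finitely generated
  submodules of `X`.
-/

set_option autoImplicit false
set_option linter.style.haveILetI false
universe u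

open CategoryTheory CategoryTheory.Limits MonoidalCategory

namespace Groth.Agent.TorField

variable {A : Type u} [CommRing A]

/-- `X ↦ X ⊗ P`. -/
noncomputable def tensorCx (P : ChainComplex (ModuleCat.{u} A) ℕ) :
    ModuleCat.{u} A ⥤ ChainComplex (ModuleCat.{u} A) ℕ where
  obj X := (((tensoringLeft (ModuleCat.{u} A)).obj X).mapHomologicalComplex _).obj P
  map f := (NatTrans.mapHomologicalComplex ((tensoringLeft (ModuleCat.{u} A)).map f) _).app P
  map_id X := by ext : 1; simp
  map_comp f g := by ext : 1; simp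

instance (P : ChainComplex (ModuleCat.{u} A) ℕ) : (tensorCx P).Additive where
  map_add {X Y f g} := by
    ext i : 1
    exact MonoidalPreadditive.add_whiskerRight (X := P.X i) f g

/-- Functoriality in the complex. -/
noncomputable def tensorCxMap {P Q : ChainComplex (ModuleCat.{u} A) ℕ} (φ : P ⟶ Q) :
    tensorCx P ⟶ tensorCx Q where
  app X := (((tensoringLeft (ModuleCat.{u} A)).obj X).mapHomologicalComplex _).map φ
  naturality X Y f :=
    ((NatTrans.mapHomologicalComplex ((tensoringLeft (ModuleCat.{u} A)).map f) _).naturality φ).symm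

/-- `H_p(- ⊗ P)`. -/
noncomputable abbrev HN (P : ChainComplex (ModuleCat.{u} A) ℕ) (p : ℕ) :
    ModuleCat.{u} A ⥤ ModuleCat.{u} A :=
  tensorCx P ⋙ HomologicalComplex.homologyFunctor _ _ p

variable {P : ChainComplex (ModuleCat.{u} A) ℕ}

lemma shortExact_tensor (hP : ∀ i, Module.Flat A (P.X i)) {S : ShortComplex (ModuleCat.{u} A)}
    (hS : S.ShortExact) : (S.map (tensorCx P)).ShortExact := by
  apply HomologicalComplex.shortExact_of_degreewise_shortExact
  intro i
  haveI := hP i
  refine
    { exact := (ShortComplex.ShortExact.moduleCat_exact_iff_function_exact _).mpr ?_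
      mono_f := (ModuleCat.mono_iff_injective _).2 ?_
      epi_g := (ModuleCat.epi_iff_surjective _).2 ?_ }
  · exact rTensor_exact (P.X i)
      ((ShortComplex.ShortExact.moduleCat_exact_iff_function_exact _).mp hS.exact)
      hS.moduleCat_surjective_g
  · exact Module.Flat.rTensor_preserves_injective_linearMap _ hS.moduleCat_injective_f
  · exact LinearMap.rTensor_surjective _ hS.moduleCat_surjective_g

section Elementwise

variable (S T : ShortComplex (ModuleCat.{u} A))

/-- The class of a cycle. -/
noncomputable def cls (z : LinearMap.ker S.g.hom) : S.homology :=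
  S.homologyπ (S.moduleCatCyclesIso.inv z)

lemma cls_surjective : Function.Surjective (cls S) :=
  ((ModuleCat.epi_iff_surjective S.homologyπ).1 inferInstance).comp
    ((ModuleCat.epi_iff_surjective S.moduleCatCyclesIso.inv).1 inferInstance)

lemma cls_eq_zero_iff (z : LinearMap.ker S.g.hom) :
    cls S z = 0 ↔ (z : S.X₂) ∈ LinearMap.range S.f.hom := by
  have h : cls S z = S.moduleCatHomologyIso.inv (S.moduleCatLeftHomologyData.π z) :=
    ShortComplex.moduleCatCyclesIso_inv_π_apply S z
  rw [h, ← map_zero S.moduleCatHomologyIso.inv.hom,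
    ((ModuleCat.mono_iff_injective S.moduleCatHomologyIso.inv).1 inferInstance).eq_iff]
  refine (Submodule.Quotient.mk_eq_zero _).trans ⟨?_, ?_⟩
  · rintro ⟨w, hw⟩
    exact ⟨w, congrArg Subtype.val hw⟩
  · rintro ⟨w, hw⟩
    exact ⟨w, Subtype.ext hw⟩

variable {S T}

/-- Image of a cycle. -/
def mapKer (φ : S ⟶ T) (z : LinearMap.ker S.g.hom) : LinearMap.ker T.g.hom :=
  ⟨φ.τ₂ (z : S.X₂), by
    have h := ConcreteCategory.congr_hom φ.comm₂₃ (z : S.X₂)
    rw [LinearMap.mem_ker]
    refine h.trans ?_
    show φ.τ₃.hom (S.g.hom z) = 0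
    rw [show S.g.hom z = 0 from z.2, map_zero]⟩

lemma cls_map (φ : S ⟶ T) (z : LinearMap.ker S.g.hom) :
    ShortComplex.homologyMap φ (cls S z) = cls T (mapKer φ z) := by
  have h := ConcreteCategory.congr_hom (ShortComplex.homologyπ_naturality φ) (S.moduleCatCyclesIso.inv z)
  refine h.trans (congrArg T.homologyπ.hom ?_)
  apply (ModuleCat.mono_iff_injective T.iCycles).1 inferInstance
  have h1 := ConcreteCategory.congr_hom (ShortComplex.cyclesMap_i φ) (S.moduleCatCyclesIso.inv z)
  refine h1.trans ?_
  refine (congrArg φ.τ₂.hom (ShortComplex.moduleCatCyclesIso_inv_iCycles_apply (S := S) z)).trans ?_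
  exact (ShortComplex.moduleCatCyclesIso_inv_iCycles_apply (S := T) (mapKer φ z)).symm

end Elementwise

/-- The inclusion of a submodule, as a morphism. -/
noncomputable abbrev incl {X : ModuleCat.{u} A} (W : Submodule A X) : ModuleCat.of A W ⟶ X :=
  ModuleCat.ofHom W.subtype

lemma tensor_incl_injective {i : ℕ} (hP : Module.Flat A (P.X i)) {X : ModuleCat.{u} A}
    (W : Submodule A X) : Function.Injective (((tensorCx P).map (incl W)).f i).hom :=
  Module.Flat.rTensor_preserves_injective_linearMap W.subtype Subtype.val_injective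

lemma exists_fg_preimage {X : ModuleCat.{u} A} (i : ℕ) (x : ((tensorCx P).obj X).X i) :
    ∃ W : Submodule A X, W.FG ∧ x ∈ LinearMap.range (((tensorCx P).map (incl W)).f i).hom := by
  obtain ⟨W, hW, h⟩ := TensorProduct.exists_finite_submodule_left_of_setFinite
    ({x} : Set (TensorProduct A X (P.X i))) (Set.finite_singleton x)
  exact ⟨W, Module.Finite.iff_fg.1 hW, h (Set.mem_singleton x)⟩

/-- Every class of `H_i(X ⊗ P)` comes from a finitely generated submodule. -/
lemma exists_fg_rep (hP : ∀ i, Module.Flat A (P.X i)) {X : ModuleCat.{u} A} (i : ℕ)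
    (ξ : (HN P i).obj X) : ∃ W : Submodule A X, W.FG ∧ ∃ η, (HN P i).map (incl W) η = ξ := by
  obtain ⟨z, rfl⟩ := cls_surjective (((tensorCx P).obj X).sc i) ξ
  obtain ⟨W, hW, w, hw⟩ := exists_fg_preimage (P := P) (X := X) i z.1
  have hw0 : (((tensorCx P).obj (ModuleCat.of A W)).d i ((ComplexShape.down ℕ).next i)).hom w = 0 := by
    apply tensor_incl_injective (hP _) W
    refine Eq.trans ?_ (map_zero _).symm
    exact (ConcreteCategory.congr_hom (((tensorCx P).map (incl W)).comm i _) w).symm.trans
      ((congrArg _ hw).trans z.2)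
  refine ⟨W, hW, cls _ ⟨w, hw0⟩, ?_⟩
  refine (cls_map ((HomologicalComplex.shortComplexFunctor _ _ i).map ((tensorCx P).map (incl W)))
    ⟨w, hw0⟩).trans ?_
  exact congrArg (cls _) (Subtype.ext hw)

/-- A class of a submodule dying in `X` dies in a larger finitely generated submodule. -/
lemma exists_fg_map_eq_zero (hP : ∀ i, Module.Flat A (P.X i)) {X : ModuleCat.{u} A} (i : ℕ)
    {W : Submodule A X} (hW : W.FG) (η : (HN P i).obj (ModuleCat.of A W))
    (h : (HN P i).map (incl W) η = 0) :
    ∃ (W' : Submodule A X) (hle : W ≤ W'), W'.FG ∧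
      (HN P i).map (ModuleCat.ofHom (Submodule.inclusion hle)) η = 0 := by
  obtain ⟨z, rfl⟩ := cls_surjective (((tensorCx P).obj (ModuleCat.of A W)).sc i) η
  have h' := (cls_map ((HomologicalComplex.shortComplexFunctor _ _ i).map ((tensorCx P).map (incl W)))
    z).symm.trans h
  obtain ⟨w, hw⟩ := (cls_eq_zero_iff _ _).1 h'
  obtain ⟨W₁, hW₁, w₁, hw₁⟩ := exists_fg_preimage _ w
  refine ⟨W ⊔ W₁, le_sup_left, hW.sup hW₁, ?_⟩
  refine (cls_map ((HomologicalComplex.shortComplexFunctor _ _ i).map
    ((tensorCx P).map (ModuleCat.ofHom (Submodule.inclusion (le_sup_left : W ≤ W ⊔ W₁))))) z).trans ?_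
  refine (cls_eq_zero_iff _ _).2 ⟨(((tensorCx P).map
    (ModuleCat.ofHom (Submodule.inclusion (le_sup_right : W₁ ≤ W ⊔ W₁)))).f _).hom w₁, ?_⟩
  apply tensor_incl_injective (hP i) (W ⊔ W₁)
  let j₁ := (tensorCx P).map (ModuleCat.ofHom (Submodule.inclusion (le_sup_right : W₁ ≤ W ⊔ W₁)))
  let j := (tensorCx P).map (ModuleCat.ofHom (Submodule.inclusion (le_sup_left : W ≤ W ⊔ W₁)))
  let k := (tensorCx P).map (incl (W ⊔ W₁))
  have e1 : j₁ ≫ k = (tensorCx P).map (incl W₁) := ((tensorCx P).map_comp _ _).symm
  have e2 : j ≫ k = (tensorCx P).map (incl W) := ((tensorCx P).map_comp _ _).symm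
  refine (ConcreteCategory.congr_hom (k.comm _ i) _).symm.trans ?_
  show (((tensorCx P).obj X).d _ i).hom ((k.f _).hom ((j₁.f _).hom w₁)) =
    (k.f i).hom ((j.f i).hom z.1)
  rw [← e1] at hw₁
  rw [← e2] at hw
  exact (congrArg _ hw₁).trans hw

section FiveLemma

variable {C : Type*} [Category C] [Abelian C] {S₁ S₂ : ShortComplex (ChainComplex C ℕ)}
  (φ : S₁ ⟶ S₂) (hS₁ : S₁.ShortExact) (hS₂ : S₂.ShortExact)

open HomologicalComplex HomologySequence ComposableArrows

include hS₁ hS₂

lemma quasiIso_τ₁ (h₂ : QuasiIso φ.τ₂) (h₃ : QuasiIso φ.τ₃) : QuasiIso φ.τ₁ := by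
  rw [quasiIso_iff] at h₂ h₃ ⊢
  intro i
  simp only [quasiIsoAt_iff_isIso_homologyMap] at h₂ h₃ ⊢
  exact Abelian.isIso_of_epi_of_isIso_of_isIso_of_mono
    (composableArrows₅_exact hS₁ (i + 1) i rfl).δ₀
    (composableArrows₅_exact hS₂ (i + 1) i rfl).δ₀
    (δ₀Functor.map (mapComposableArrows₅ φ hS₁ hS₂ (i + 1) i rfl))
    (have := h₂ (i + 1); IsIso.epi_of_iso (homologyMap φ.τ₂ (i + 1)))
    (h₃ (i + 1)) (h₂ i)
    (have := h₃ i; IsIso.mono_of_iso (homologyMap φ.τ₃ i))

lemma quasiIso_τ₂ (h₁ : QuasiIso φ.τ₁) (h₃ : QuasiIso φ.τ₃) : QuasiIso φ.τ₂ := by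
  rw [quasiIso_iff] at h₁ h₃ ⊢
  intro i
  simp only [quasiIsoAt_iff_isIso_homologyMap] at h₁ h₃ ⊢
  have hm : Mono (homologyMap φ.τ₂ i) :=
    Abelian.mono_of_epi_of_mono_of_mono
      ((δ₀Functor ⋙ δ₀Functor).map (mapComposableArrows₅ φ hS₁ hS₂ (i + 1) i rfl))
      (composableArrows₅_exact hS₁ (i + 1) i rfl).δ₀.δ₀
      (composableArrows₅_exact hS₂ (i + 1) i rfl).δ₀.δ₀
      (have := h₃ (i + 1); IsIso.epi_of_iso (homologyMap φ.τ₃ (i + 1)))
      (have := h₁ i; IsIso.mono_of_iso (homologyMap φ.τ₁ i))
      (have := h₃ i; IsIso.mono_of_iso (homologyMap φ.τ₃ i))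
  have he : Epi (homologyMap φ.τ₂ i) := by
    cases i with
    | zero =>
      have := hS₁.epi_g
      exact Abelian.epi_of_epi_of_epi_of_epi (mapComposableArrows₂ φ 0)
        (composableArrows₂_exact hS₂ 0)
        (HomologicalComplex.epi_homologyMap_of_epi_of_not_rel S₁.g 0 (by simp))
        (have := h₁ 0; IsIso.epi_of_iso (homologyMap φ.τ₁ 0))
        (have := h₃ 0; IsIso.epi_of_iso (homologyMap φ.τ₃ 0))
    | succ j =>
      exact Abelian.epi_of_epi_of_epi_of_mono
        ((δlastFunctor ⋙ δlastFunctor).map (mapComposableArrows₅ φ hS₁ hS₂ (j + 1) j rfl))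
        (composableArrows₅_exact hS₁ (j + 1) j rfl).δlast.δlast
        (composableArrows₅_exact hS₂ (j + 1) j rfl).δlast.δlast
        (have := h₁ (j + 1); IsIso.epi_of_iso (homologyMap φ.τ₁ (j + 1)))
        (have := h₃ (j + 1); IsIso.epi_of_iso (homologyMap φ.τ₃ (j + 1)))
        (have := h₁ j; IsIso.mono_of_iso (homologyMap φ.τ₁ j))
  exact isIso_of_mono_of_epi _

end FiveLemma

/-- Reduction to residue fields. -/
theorem good_of_residueField [IsNoetherianRing A] (Good : ModuleCat.{u} A → Prop)
    (hzero : ∀ X : ModuleCat.{u} A, IsZero X → Good X)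
    (hiso : ∀ {X Y : ModuleCat.{u} A}, (X ≅ Y) → Good X → Good Y)
    (hext : ∀ S : ShortComplex (ModuleCat.{u} A), S.ShortExact → Good S.X₁ → Good S.X₃ → Good S.X₂)
    (hsub : ∀ S : ShortComplex (ModuleCat.{u} A), S.ShortExact → Good S.X₂ → Good S.X₃ → Good S.X₁)
    (hfg : ∀ X : ModuleCat.{u} A, (∀ W : Submodule A X, W.FG → Good (ModuleCat.of A W)) → Good X)
    (hk : ∀ (x : Ideal A) [x.IsPrime], Good (ModuleCat.of A x.ResidueField))
    (X : ModuleCat.{u} A) : Good X := by
  have key : ∀ (J : Ideal A) (N : Type u) [AddCommGroup N] [Module A N] [Module.Finite A N],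
      J ≤ Module.annihilator A N → Good (ModuleCat.of A N) := by
    intro J
    induction J using WellFoundedGT.induction with
    | _ J ih =>
    intro N _ _ _
    induction ‹Module.Finite A N› using IsNoetherianRing.induction_on_isQuotientEquivQuotientPrime A with
    | subsingleton N => intro _; exact hzero _ (ModuleCat.isZero_of_subsingleton _)
    | quotient N p e =>
      intro hJ
      refine hiso e.symm.toModuleIso ?_
      have hJp : J ≤ p.1 := by
        rw [LinearEquiv.annihilator_eq e, Ideal.annihilator_quotient] at hJ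
        exact hJ
      rcases hJp.lt_or_eq with hlt | rfl
      · exact ih p.1 hlt (A ⧸ p.1) (by rw [Ideal.annihilator_quotient])
      · haveI := p.2
        let ι : A ⧸ p.1 →ₗ[A] p.1.ResidueField :=
          Submodule.liftQ p.1 (Algebra.linearMap A p.1.ResidueField)
            (fun x hx => Ideal.algebraMap_residueField_eq_zero.2 hx)
        have hι : Function.Injective ι := by
          refine LinearMap.ker_eq_bot.1 (Submodule.ker_liftQ_eq_bot _ _ _ fun x hx => ?_)
          exact Ideal.algebraMap_residueField_eq_zero.1 hx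
        let S : ShortComplex (ModuleCat.{u} A) := ShortComplex.mk (ModuleCat.ofHom ι)
          (ModuleCat.ofHom (LinearMap.range ι).mkQ)
          (ModuleCat.hom_ext (LinearMap.ext fun x =>
            (Submodule.Quotient.mk_eq_zero _).2 (LinearMap.mem_range_self ι x)))
        have hS : S.ShortExact :=
          { exact := S.moduleCat_exact_iff.2 fun y hy =>
              LinearMap.mem_range.1 ((Submodule.Quotient.mk_eq_zero _).1 hy)
            mono_f := (ModuleCat.mono_iff_injective _).2 hι
            epi_g := (ModuleCat.epi_iff_surjective _).2 (Submodule.mkQ_surjective _) }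
        refine hsub S hS (hk p.1) (hfg _ fun W hW => ?_)
        haveI : Module.Finite A W := Module.Finite.iff_fg.2 hW
        obtain ⟨s, hs⟩ := hW
        have hex : ∀ w : p.1.ResidueField ⧸ LinearMap.range ι,
            ∃ a ∉ p.1, a • w = 0 := by
          intro w
          obtain ⟨y, rfl⟩ := Submodule.Quotient.mk_surjective _ w
          obtain ⟨b, c, hc, rfl⟩ := IsFractionRing.div_surjective (A := A ⧸ p.1) y
          obtain ⟨a, rfl⟩ := Ideal.Quotient.mk_surjective c
          have ha : a ∉ p.1 := fun h =>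
            nonZeroDivisors.ne_zero hc (Ideal.Quotient.eq_zero_iff_mem.2 h)
          refine ⟨a, ha, ?_⟩
          rw [← Submodule.Quotient.mk_smul, Submodule.Quotient.mk_eq_zero]
          obtain ⟨b', rfl⟩ := Ideal.Quotient.mk_surjective b
          refine ⟨Submodule.Quotient.mk b', ?_⟩
          have ha' : algebraMap A p.1.ResidueField a ≠ 0 :=
            fun h => ha (Ideal.algebraMap_residueField_eq_zero.1 h)
          show algebraMap A p.1.ResidueField b' = a • (_ / _)
          rw [Algebra.smul_def, ← Ideal.Quotient.algebraMap_eq, ← IsScalarTower.algebraMap_apply,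
            ← IsScalarTower.algebraMap_apply, mul_div_cancel₀ _ ha']
        choose a ha ha0 using hex
        classical
        let b := ∏ w ∈ s, a w
        have hb : b ∉ p.1 := fun h => by
          obtain ⟨w, -, hw⟩ := (Ideal.IsPrime.prod_mem_iff (hp := p.2)).1 h
          exact ha w hw
        refine ih (p.1 ⊔ Ideal.span {b}) (left_lt_sup.2 fun h => hb (h (Ideal.mem_span_singleton_self b)))
          W (sup_le (fun x hx => Module.mem_annihilator.2 fun w => Subtype.ext ?_) ?_)
        · show x • (w : p.1.ResidueField ⧸ LinearMap.range ι) = 0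
          obtain ⟨y, hy⟩ := Submodule.Quotient.mk_surjective _ (w : p.1.ResidueField ⧸ LinearMap.range ι)
          rw [← hy, ← Submodule.Quotient.mk_smul, Algebra.smul_def,
            Ideal.algebraMap_residueField_eq_zero.2 hx, zero_mul, Submodule.Quotient.mk_zero]
        · rw [Ideal.span_singleton_le_iff_mem]
          refine Module.mem_annihilator.2 fun w => Subtype.ext ?_
          show b • (w : p.1.ResidueField ⧸ LinearMap.range ι) = 0
          have hle : Submodule.span A (s : Set (p.1.ResidueField ⧸ LinearMap.range ι)) ≤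
              LinearMap.ker (LinearMap.lsmul A _ b) := Submodule.span_le.2 fun v hv => by
            simp only [SetLike.mem_coe, LinearMap.mem_ker, LinearMap.lsmul_apply]
            rw [show b = (∏ u ∈ s.erase v, a u) * a v from (Finset.prod_erase_mul s a hv).symm,
              mul_smul, ha0, smul_zero]
          exact hle (hs.symm.le w.2)
    | exact N₁ N₂ N₃ f g hf hg hfg' h₁ h₃ =>
      intro hJ
      let S : ShortComplex (ModuleCat.{u} A) := ShortComplex.mk (ModuleCat.ofHom f) (ModuleCat.ofHom g)
        (ModuleCat.hom_ext (LinearMap.ext hfg'.apply_apply_eq_zero))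
      have hS : S.ShortExact :=
        { exact := (ShortComplex.ShortExact.moduleCat_exact_iff_function_exact _).mpr hfg'
          mono_f := (ModuleCat.mono_iff_injective _).2 hf
          epi_g := (ModuleCat.epi_iff_surjective _).2 hg }
      exact hext S hS (h₁ (hJ.trans (f.annihilator_le_of_injective hf)))
        (h₃ (hJ.trans (g.annihilator_le_of_surjective hg)))
  refine hfg X fun W hW => ?_
  haveI := Module.Finite.iff_fg.2 hW
  exact key ⊥ W bot_le

end Groth.Agent.TorField
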