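import Groth.Agent.TorField.Basic

/-!
# Quasi-isomorphisms of complexes of flat modules are detected on residue fields
-/

set_option autoImplicit false
set_option linter.style.haveILetI false
universe u

open CategoryTheory CategoryTheory.Limits

namespace Groth.Agent.TorField

variable {A : Type u} [CommRing A]

/-- A map of complexes of flat modules which is a quasi-isomorphism on all residue fields is one
after tensoring with any module. -/
theorem quasiIso_of_residueField [IsNoetherianRing A] {P Q : ChainComplex (ModuleCat.{u} A) ℕ}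
    (hP : ∀ i, Module.Flat A (P.X i)) (hQ : ∀ i, Module.Flat A (Q.X i)) (φ : P ⟶ Q)
    (hk : ∀ (x : Ideal A) [x.IsPrime], QuasiIso ((tensorCxMap φ).app (ModuleCat.of A x.ResidueField)))
    (X : ModuleCat.{u} A) : QuasiIso ((tensorCxMap φ).app X) := by
  refine good_of_residueField (fun X => QuasiIso ((tensorCxMap φ).app X)) ?_ ?_ ?_ ?_ ?_ hk X
  · intro X hX
    haveI : IsIso ((tensorCxMap φ).app X) :=
      isIso_of_source_target_iso_zero _ ((tensorCx P).map_isZero hX).isoZero
        ((tensorCx Q).map_isZero hX).isoZero
    infer_instance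
  · intro X Y f hX
    have h1 : (tensorCxMap φ).app Y = (tensorCx P).map f.inv ≫ (tensorCxMap φ).app X ≫
        (tensorCx Q).map f.hom := by
      rw [← (tensorCxMap φ).naturality f.hom, ← Category.assoc, ← Functor.map_comp, Iso.inv_hom_id,
        CategoryTheory.Functor.map_id, Category.id_comp]
    rw [h1]
    infer_instance
  · intro S hS h₁ h₃
    exact quasiIso_τ₂ (S.mapNatTrans (tensorCxMap φ)) (shortExact_tensor hP hS)
      (shortExact_tensor hQ hS) h₁ h₃
  · intro S hS h₂ h₃
    exact quasiIso_τ₁ (S.mapNatTrans (tensorCxMap φ)) (shortExact_tensor hP hS)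
      (shortExact_tensor hQ hS) h₂ h₃
  · intro X hW
    rw [quasiIso_iff]
    intro i
    rw [quasiIsoAt_iff_isIso_homologyMap, ConcreteCategory.isIso_iff_bijective]
    have nat : ∀ {Y Z : ModuleCat.{u} A} (g : Y ⟶ Z) (η : (HN P i).obj Y),
        HomologicalComplex.homologyMap ((tensorCxMap φ).app Z) i ((HN P i).map g η) =
          (HN Q i).map g (HomologicalComplex.homologyMap ((tensorCxMap φ).app Y) i η) :=
      fun g η => ConcreteCategory.congr_hom
        ((Functor.whiskerRight (tensorCxMap φ) (HomologicalComplex.homologyFunctor _ _ i)).naturality g) η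
    have bij : ∀ W : Submodule A X, W.FG →
        Function.Bijective (HomologicalComplex.homologyMap ((tensorCxMap φ).app (ModuleCat.of A W)) i) := by
      intro W hWfg
      have := hW W hWfg
      rw [quasiIso_iff] at this
      have := this i
      rw [quasiIsoAt_iff_isIso_homologyMap] at this
      exact (ConcreteCategory.isIso_iff_bijective _).1 this
    refine ⟨(injective_iff_map_eq_zero
      (HomologicalComplex.homologyMap ((tensorCxMap φ).app X) i).hom).2 fun ξ hξ => ?_, fun ξ => ?_⟩
    · obtain ⟨W, hWfg, η, rfl⟩ := exists_fg_rep hP i ξ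
      obtain ⟨W', hle, hW', h0⟩ := exists_fg_map_eq_zero hQ i hWfg _
        ((nat (incl W) η).symm.trans hξ)
      have h1 : (HN P i).map (ModuleCat.ofHom (Submodule.inclusion hle)) η = 0 :=
        (bij W' hW').1 (((nat (ModuleCat.ofHom (Submodule.inclusion hle)) η).trans h0).trans
          (map_zero _).symm)
      have h2 : (HN P i).map (incl W) =
          (HN P i).map (ModuleCat.ofHom (Submodule.inclusion hle)) ≫
            (HN P i).map (incl W') :=
        (congrArg (HN P i).map
          (show incl W = ModuleCat.ofHom (Submodule.inclusion hle) ≫ incl W' from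
            ModuleCat.hom_ext rfl)).trans (Functor.map_comp _ _ _)
      exact (ConcreteCategory.congr_hom h2 η).trans ((congrArg ((HN P i).map (incl W')).hom h1).trans (map_zero ((HN P i).map (incl W')).hom))
    · obtain ⟨W, hWfg, η, rfl⟩ := exists_fg_rep hQ i ξ
      obtain ⟨η', rfl⟩ := (bij W hWfg).2 η
      exact ⟨_, nat _ η'⟩

end Groth.Agent.TorField
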